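import Cfsg.Agent.Lib.FGBasics.Extraspecial
import Cfsg.Agent.Lib.Transfer.PGroup

/-!
# Involutory automorphisms of extraspecial 2-groups

`centre_fix_mod`: for an automorphism `β` of order two of an extraspecial 2-group, the elements fixed modulo the centre
form the centralizer of the commutators `β(q) q⁻¹`, and these generate the centre of that subgroup.
-/

set_option autoImplicit false

namespace Cfsg.Agent.XSInvol

open scoped commutatorElement

variable {Q : Type*} [Group Q] [Finite Q]

/-- Double centralizers in an extraspecial group. -/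
theorem double_centralizer {p : ℕ} [Fact p.Prime] (h : Cfsg.IsExtraspecial p Q) {W : Subgroup Q}
    (hW : Subgroup.center Q ≤ W) : Subgroup.centralizer ((Subgroup.centralizer (W : Set Q) : Subgroup Q) : Set Q) = W := by
  set V := Subgroup.centralizer (W : Set Q) with hV
  set D := Subgroup.centralizer (V : Set Q) with hD
  have hWD : W ≤ D := Subgroup.le_centralizer_iff.1 le_rfl
  have hVD : Subgroup.centralizer (D : Set Q) = V :=
    le_antisymm (Subgroup.centralizer_le hWD) (Subgroup.le_centralizer_iff.1 le_rfl)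
  have key : ∀ U : Subgroup Q, Subgroup.center Q ≤ U →
      (Subgroup.center Q).relIndex U = (Subgroup.centralizer (U : Set Q)).index := by
    intro U hU
    have h1 := FGBasics.XS.rel_le h U ⊤
    have h2 := FGBasics.XS.rel_le h ⊤ U
    rw [Subgroup.coe_top, Subgroup.centralizer_univ, Subgroup.relIndex_top_right] at h1
    rw [Subgroup.coe_top, Subgroup.centralizer_univ, Subgroup.relIndex_top_right] at h2
    exact le_antisymm h1 h2
  have hr : (Subgroup.center Q).relIndex D = (Subgroup.center Q).relIndex W := by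
    rw [key W hW, key D (hW.trans hWD), hVD]
  refine (Subgroup.eq_of_le_of_card_ge hWD (le_of_eq ?_)).symm
  rw [← Subgroup.relIndex_bot_left, ← Subgroup.relIndex_bot_left,
    ← Subgroup.relIndex_mul_relIndex _ _ _ bot_le hW,
    ← Subgroup.relIndex_mul_relIndex _ _ _ bot_le (hW.trans hWD), hr]

theorem comm_mul_left (hc : ∀ a b : Q, ⁅a, b⁆ ∈ Subgroup.center Q) (a b c : Q) :
    ⁅a * b, c⁆ = ⁅a, c⁆ * ⁅b, c⁆ := by
  rw [← Subgroup.mem_center_iff.1 (hc b c) ⁅a, c⁆ |>.symm]
  calc ⁅a * b, c⁆ = a * ⁅b, c⁆ * a⁻¹ * ⁅a, c⁆ := by simp only [commutatorElement_def]; group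
    _ = ⁅b, c⁆ * ⁅a, c⁆ := by rw [Subgroup.mem_center_iff.1 (hc b c) a, mul_inv_cancel_right]

theorem comm_mul_right (hc : ∀ a b : Q, ⁅a, b⁆ ∈ Subgroup.center Q) (a b c : Q) :
    ⁅a, b * c⁆ = ⁅a, b⁆ * ⁅a, c⁆ := by
  calc ⁅a, b * c⁆ = ⁅a, b⁆ * (b * ⁅a, c⁆ * b⁻¹) := by simp only [commutatorElement_def]; group
    _ = ⁅a, b⁆ * ⁅a, c⁆ := by rw [Subgroup.mem_center_iff.1 (hc a c) b, mul_inv_cancel_right]

/-- The centre of the subgroup of elements fixed modulo the centre by an involutory automorphism is generated by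
the commutators. -/
theorem centre_fix_mod (h : Cfsg.IsExtraspecial 2 Q) (β : Q ≃* Q) (hβ : ∀ q, β (β q) = q)
    (hne : ∃ q, β q ≠ q) (W : Subgroup Q) (hW : W = Subgroup.closure (Set.range fun q => β q * q⁻¹))
    (V : Subgroup Q) (hV : ∀ q, q ∈ V ↔ β q * q⁻¹ ∈ Subgroup.center Q) :
    V ⊓ Subgroup.centralizer (V : Set Q) = W := by
  haveI := Fact.mk Nat.prime_two
  obtain ⟨hc, hsq, hz2⟩ := PGroupBasics.special_center h.1
  have hmc := fun {z : Q} (hz : z ∈ Subgroup.center Q) (x : Q) => Subgroup.mem_center_iff.1 hz x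
  -- the automorphism fixes the centre
  have hcard : Nat.card (Subgroup.center Q) = 2 := h.2
  obtain ⟨z, hzC, hz1, hzall⟩ : ∃ z ∈ Subgroup.center Q, z ≠ 1 ∧ ∀ y ∈ Subgroup.center Q, y = 1 ∨ y = z := by
    obtain ⟨a, b, hab, hu⟩ := Nat.card_eq_two_iff.1 hcard
    have hmem : ∀ y : Subgroup.center Q, y = a ∨ y = b := fun y => by
      have := hu.symm ▸ Set.mem_univ y
      simpa using this
    rcases hmem 1 with ha | hb
    · exact ⟨b, b.2, fun e => hab (ha.symm.trans (Subtype.ext e.symm)), fun y hy => (hmem ⟨y, hy⟩).imp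
        (fun e => congrArg Subtype.val (e.trans ha.symm)) (congrArg Subtype.val)⟩
    · exact ⟨a, a.2, fun e => hab ((Subtype.ext e).trans hb), fun y hy => (hmem ⟨y, hy⟩).symm.imp
        (fun e => congrArg Subtype.val (e.trans hb.symm)) (congrArg Subtype.val)⟩
  have hfix : ∀ y ∈ Subgroup.center Q, β y = y := by
    intro y hy
    have hmem : β y ∈ Subgroup.center Q := Subgroup.mem_center_iff.2 fun x => by
      rw [← β.apply_symm_apply x, ← map_mul, ← map_mul, hmc hy]
    rcases hzall y hy with rfl | rfl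
    · exact map_one β
    · exact (hzall _ hmem).resolve_left fun e => hz1 (β.injective (e.trans (map_one β).symm))
  set c : Q → Q := fun q => β q * q⁻¹ with hcdef
  have hcW : ∀ q, c q ∈ W := fun q => hW ▸ Subgroup.subset_closure ⟨q, rfl⟩
  -- bilinearity
  have hbil : ∀ r q, ⁅c r, c q⁆ * ⁅c r, q⁆ * ⁅r, c q⁆ = 1 := by
    intro r q
    have h0 : ⁅c r * r, c q * q⁆ = ⁅r, q⁆ := by
      simp only [hcdef, inv_mul_cancel_right]
      rw [← map_commutatorElement, hfix _ (hc r q)]
    rw [comm_mul_left hc (c r) r, comm_mul_right hc (c r) (c q) q, comm_mul_right hc r (c q) q, ← mul_assoc] at h0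
    exact mul_eq_right.1 h0
  have hcc : ∀ q, c (c q) ∈ Subgroup.center Q := fun q => by
    have e : c (c q) = (c q)⁻¹ ^ 2 := by
      simp only [hcdef, map_mul, map_inv, hβ, pow_two]
      group
    exact e ▸ hsq _
  have hWab : ∀ r q, ⁅c r, c q⁆ = 1 := by
    intro r q
    have h1 := hbil r (c q)
    rwa [commutatorElement_eq_one_iff_mul_comm.2 (hmc (hcc q) (c r)),
      commutatorElement_eq_one_iff_mul_comm.2 (hmc (hcc q) r), one_mul, mul_one] at h1
  have hsym : ∀ r q, ⁅c r, q⁆ = ⁅r, c q⁆⁻¹ := fun r q => by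
    have h1 := hbil r q
    rw [hWab, one_mul] at h1
    exact eq_inv_of_mul_eq_one_left h1
  -- `V` centralizes exactly `W`
  have hVW : V = Subgroup.centralizer (W : Set Q) := by
    ext q
    rw [hV, hW, Subgroup.centralizer_closure, Subgroup.mem_centralizer_iff]
    constructor
    · rintro hq _ ⟨r, rfl⟩
      refine commutatorElement_eq_one_iff_mul_comm.1 ((hsym r q).trans ?_)
      rw [commutatorElement_eq_one_iff_mul_comm.2 (hmc hq r), inv_one]
    · intro hq
      refine Subgroup.mem_center_iff.2 fun r => commutatorElement_eq_one_iff_mul_comm.1 ?_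
      have h1 := hsym r q
      rw [commutatorElement_eq_one_iff_mul_comm.2 (hq _ ⟨r, rfl⟩)] at h1
      exact inv_eq_one.1 h1.symm
  have hWC : W ≤ V := by
    rw [hVW, hW, Subgroup.closure_le]
    rintro _ ⟨q, rfl⟩
    show c q ∈ Subgroup.centralizer _
    rw [Subgroup.centralizer_closure, Subgroup.mem_centralizer_iff]
    rintro _ ⟨r, rfl⟩
    exact commutatorElement_eq_one_iff_mul_comm.1 (hWab r q)
  -- the centre lies in `W`
  have hZW : Subgroup.center Q ≤ W := by
    obtain ⟨q, hq⟩ := hne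
    have hne1 : c q ≠ 1 := fun e => hq (mul_inv_eq_one.1 e)
    obtain ⟨y, hyW, hyC, hy1⟩ : ∃ y ∈ W, y ∈ Subgroup.center Q ∧ y ≠ 1 := by
      by_cases hcen : c q ∈ Subgroup.center Q
      · exact ⟨c q, hcW q, hcen, hne1⟩
      · rw [Subgroup.mem_center_iff] at hcen
        push Not at hcen
        obtain ⟨r, hr⟩ := hcen
        refine ⟨⁅r, c q⁆, ?_, hc _ _, fun e => hr (commutatorElement_eq_one_iff_mul_comm.1 e)⟩
        have e : r * c q * r⁻¹ = (c r)⁻¹ * c (r * q) := by
          simp only [hcdef, map_mul]; group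
        rw [commutatorElement_def, e]
        exact W.mul_mem (W.mul_mem (W.inv_mem (hcW r)) (hcW _)) (W.inv_mem (hcW q))
    intro x hx
    rcases hzall x hx with rfl | rfl
    · exact W.one_mem
    · rwa [← (hzall y hyC).resolve_left hy1]
  have hd := double_centralizer h hZW
  rw [← hVW] at hd
  rw [hd, inf_eq_right]
  exact hWC

end Cfsg.Agent.XSInvol
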