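/-
The automorphism group of an extraspecial 2-group of order at least 2^7 does not split over the inner
automorphisms: lift four commuting orthogonal transvections with dependent vectors.
-/
import Cfsg.Prelude.Def_Transfer
import Cfsg.Prelude.Def_KGroupFacts
import Cfsg.Agent.Lib.Solvable.Basic

set_option autoImplicit false

namespace Cfsg.Agent.XNonSplit

open Subgroup
open scoped Pointwise

variable {Q : Type*} [Group Q]

/-- The centre has order two and contains all commutators and squares. -/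
structure Setup (z : Q) : Prop where
  one_ne : z ≠ 1
  sq : z * z = 1
  central : ∀ x : Q, z * x = x * z
  comm : ∀ x y : Q, x * y = y * x ∨ x * y = y * x * z
  square : ∀ x : Q, x * x = 1 ∨ x * x = z

theorem exists_setup (hQ : Cfsg.IsExtraspecial 2 Q) : ∃ z : Q, Setup z ∧ z ∈ center Q := by
  obtain ⟨⟨-, -, hc⟩, hcard⟩ := hQ
  have : Finite (center Q) := Nat.finite_of_card_ne_zero (by omega)
  obtain ⟨⟨z, hz⟩, hz1⟩ := (Nat.card_eq_two_iff' (1 : center Q)).1 hcard
  have hall : ∀ c ∈ center Q, c = 1 ∨ c = z := by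
    intro c hcc
    by_cases h : (⟨c, hcc⟩ : center Q) = 1
    · exact Or.inl (congrArg Subtype.val h)
    · exact Or.inr (congrArg Subtype.val (hz1.2 _ h))
  have hzc : ∀ x : Q, z * x = x * z := fun x => (mem_center_iff.1 hz x).symm
  have hz0 : z ≠ 1 := fun h => hz1.1 (Subtype.ext h)
  have hzz : z * z = 1 := (hall _ (mul_mem hz hz)).resolve_right fun h => hz0 (mul_eq_left.1 h)
  have hcomm : ∀ x y : Q, x * y = y * x ∨ x * y = y * x * z := by
    intro x y
    have h : x * y * x⁻¹ * y⁻¹ ∈ center Q :=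
      hc ▸ commutator_mem_commutator (mem_top x) (mem_top y)
    rcases hall _ h with h | h
    · exact Or.inl (by rwa [mul_inv_eq_one, mul_inv_eq_iff_eq_mul] at h)
    · rw [mul_inv_eq_iff_eq_mul, mul_inv_eq_iff_eq_mul, hzc] at h
      exact Or.inr (by rw [h, mul_assoc, hzc, ← mul_assoc])
  refine ⟨z, ⟨hz0, hzz, hzc, hcomm, fun x => hall _ (mem_center_iff.2 fun y => ?_)⟩, hz⟩
  rcases hcomm x y with h | h
  · exact ((show Commute x y from h).mul_left h).eq.symm
  · calc y * (x * x) = y * x * x := (mul_assoc _ _ _).symm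
      _ = x * y * z * x := by rw [h, mul_assoc (y * x) z z, hzz, mul_one]
      _ = x * (y * x * z) := by rw [mul_assoc (x * y), hzc, ← mul_assoc, mul_assoc x, mul_assoc x]
      _ = x * x * y := by rw [← h, ← mul_assoc]

variable {z : Q}

theorem Setup.not_comm (hS : Setup z) {x y : Q} (h : ¬ x * y = y * x) : x * y = y * x * z :=
  (hS.comm x y).resolve_left h

theorem Setup.ne_mul (hS : Setup z) (w : Q) : w ≠ w * z := fun e => hS.one_ne (mul_eq_left.1 e.symm)

/-- Two elements not commuting with `a` differ by one commuting with it. -/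
theorem Setup.comm_mul (hS : Setup z) {a x y : Q} (hx : ¬ x * a = a * x) (hy : ¬ y * a = a * y) :
    (x * y) * a = a * (x * y) := by
  rw [mul_assoc, hS.not_comm hy, ← mul_assoc, ← mul_assoc, hS.not_comm hx]
  rw [mul_assoc (a * x) z y, hS.central y]
  simp [mul_assoc, hS.sq]

section Trans

open scoped Classical

/-- The transvection map of an element of order four. -/
noncomputable def trFun (a x : Q) : Q := if x * a = a * x then x else x * a

theorem trFun_comm {a x : Q} (h : x * a = a * x) : trFun a x = x := if_pos h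
theorem trFun_not {a x : Q} (h : ¬ x * a = a * x) : trFun a x = x * a := if_neg h

theorem trFun_mul (hS : Setup z) {a : Q} (ha : a * a = z) (x y : Q) :
    trFun a (x * y) = trFun a x * trFun a y := by
  by_cases hx : x * a = a * x <;> by_cases hy : y * a = a * y
  · rw [trFun_comm hx, trFun_comm hy, trFun_comm (show (x * y) * a = a * (x * y) by
      rw [mul_assoc, hy, ← mul_assoc, hx, mul_assoc])]
  · rw [trFun_comm hx, trFun_not hy, trFun_not (show ¬ (x * y) * a = a * (x * y) from fun h => hy (by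
      rw [← mul_assoc, ← hx, mul_assoc, mul_assoc] at h
      exact mul_left_cancel h)), mul_assoc]
  · rw [trFun_not hx, trFun_comm hy, trFun_not (show ¬ (x * y) * a = a * (x * y) from fun h => hx (by
      rw [mul_assoc, hy, ← mul_assoc, ← mul_assoc] at h
      exact mul_right_cancel h)), mul_assoc, hy, mul_assoc]
  · rw [trFun_not hx, trFun_not hy, trFun_comm (hS.comm_mul hx hy)]
    have h : a * y = y * a * z := by
      rw [hS.not_comm hy, mul_assoc, hS.sq, mul_one]
    symm
    calc x * a * (y * a) = x * (a * y) * a := by simp [mul_assoc]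
      _ = x * (y * a * z) * a := by rw [h]
      _ = x * y * (a * a) * z := by simp [mul_assoc, hS.central a]
      _ = x * y := by rw [ha, mul_assoc _ z z, hS.sq, mul_one]

theorem trFun_trFun (hS : Setup z) {a : Q} (ha : a * a = z) (x : Q) :
    trFun a (trFun a x) = a * x * a⁻¹ := by
  by_cases hx : x * a = a * x
  · rw [trFun_comm hx, trFun_comm hx, ← hx, mul_inv_cancel_right]
  · rw [trFun_not hx, trFun_mul hS ha, trFun_not hx, trFun_comm rfl, mul_assoc x a a, ha,
      eq_mul_inv_iff_mul_eq, mul_assoc, hS.central, ← mul_assoc, hS.not_comm hx, mul_assoc, hS.sq, mul_one]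

/-- The transvection automorphism of an element of order four. -/
noncomputable def trAut (hS : Setup z) {a : Q} (ha : a * a = z) : MulAut Q :=
  MulEquiv.ofBijective (MonoidHom.mk' (trFun a) (trFun_mul hS ha)) <| by
    have h : Function.Bijective (trFun a ∘ trFun a) := by
      rw [show trFun a ∘ trFun a = fun x => a * x * a⁻¹ from funext (trFun_trFun hS ha)]
      exact (MulAut.conj a).bijective
    exact ⟨h.1.of_comp, h.2.of_comp⟩

theorem trAut_apply (hS : Setup z) {a : Q} (ha : a * a = z) (x : Q) : trAut hS ha x = trFun a x := rfl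

theorem trAut_sq (hS : Setup z) {a : Q} (ha : a * a = z) :
    trAut hS ha * trAut hS ha = MulAut.conj a :=
  MulEquiv.ext fun x => trFun_trFun hS ha x

theorem trAut_comm (hS : Setup z) {a b : Q} (ha : a * a = z) (hb : b * b = z) (hab : a * b = b * a) :
    trAut hS ha * trAut hS hb = trAut hS hb * trAut hS ha := by
  refine MulEquiv.ext fun x => ?_
  show trFun a (trFun b x) = trFun b (trFun a x)
  by_cases hxa : x * a = a * x <;> by_cases hxb : x * b = b * x
  · rw [trFun_comm hxb, trFun_comm hxa, trFun_comm hxb]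
  · rw [trFun_not hxb, trFun_comm hxa, trFun_not hxb, trFun_mul hS ha, trFun_comm hxa, trFun_comm hab.symm]
  · rw [trFun_comm hxb, trFun_not hxa, trFun_mul hS hb, trFun_comm hxb, trFun_comm hab]
  · rw [trFun_not hxb, trFun_not hxa, trFun_mul hS hb, trFun_mul hS ha, trFun_not hxb, trFun_not hxa,
      trFun_comm hab, trFun_comm hab.symm, mul_assoc, hab, ← mul_assoc]

end Trans

theorem aut_mul_conj (τ : MulAut Q) (w : Q) : τ * MulAut.conj w = MulAut.conj (τ w) * τ :=
  MulEquiv.ext fun x => by simp [MulAut.mul_apply]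

theorem mem_center_of_conj_eq_one {g : Q} (h : MulAut.conj g = 1) : g ∈ center Q :=
  mem_center_iff.2 fun x => by
    have := DFunLike.congr_fun h x
    simp only [MulAut.conj_apply, MulAut.one_apply, mul_inv_eq_iff_eq_mul] at this
    exact this.symm

/-- Lifts in a complement of two commuting transvections. -/
theorem lift_comm (hS : Setup z) {L : Subgroup (MulAut Q)} (hd : Disjoint (Cfsg.Inn Q) L) {a b wa wb : Q}
    (ha : a * a = z) (hb : b * b = z) (hab : a * b = b * a) (haZ : a ∉ center Q) (hbZ : b ∉ center Q)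
    (habZ : a * b⁻¹ ∉ center Q)
    (hla : MulAut.conj wa * trAut hS ha ∈ L) (hlb : MulAut.conj wb * trAut hS hb ∈ L) :
    wa * b = b * wa := by
  have h1 : ∀ {a b wa wb : Q} (ha : a * a = z) (hb : b * b = z),
      MulAut.conj wa * trAut hS ha * (MulAut.conj wb * trAut hS hb) =
        MulAut.conj (wa * trFun a wb) * (trAut hS ha * trAut hS hb) := fun ha hb => by
    rw [map_mul, ← trAut_apply hS ha]
    rw [mul_assoc, ← mul_assoc (trAut hS ha), aut_mul_conj]
    simp only [mul_assoc]
  have hmem := L.mul_mem (L.mul_mem hla hlb) (L.inv_mem (L.mul_mem hlb hla))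
  rw [h1 ha hb, h1 hb ha, trAut_comm hS hb ha hab.symm, mul_inv_rev, mul_assoc,
    mul_inv_cancel_left, ← map_inv, ← map_mul] at hmem
  have hZ : wa * trFun a wb * (wb * trFun b wa)⁻¹ ∈ center Q := mem_center_of_conj_eq_one
    (Subgroup.disjoint_def.1 hd ⟨_, rfl⟩ hmem)
  by_contra hne
  have hc : (wb * wa)⁻¹ * (wa * wb) ∈ center Q := by
    rcases hS.comm wa wb with h | h
    · rw [h, inv_mul_cancel]; exact one_mem _
    · rw [h, inv_mul_cancel_left]
      exact mem_center_iff.2 fun g => (hS.central g).symm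
  rw [trFun_not hne] at hZ
  by_cases hwb : wb * a = a * wb
  · rw [trFun_comm hwb] at hZ
    apply hbZ
    have h2 := (center Q).mul_mem ((inferInstance : (center Q).Normal).conj_mem' _ hZ (wb * wa))
      ((center Q).inv_mem hc)
    have h3 : (wb * wa)⁻¹ * (wa * wb * (wb * (wa * b))⁻¹) * (wb * wa) * ((wb * wa)⁻¹ * (wa * wb))⁻¹ =
        (wb * wa)⁻¹ * (wa * wb) * b⁻¹ * ((wb * wa)⁻¹ * (wa * wb))⁻¹ := by group
    rw [h3, mem_center_iff.1 ((center Q).inv_mem hc) _, inv_mul_cancel_left] at h2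
    exact inv_mem_iff.1 h2
  · rw [trFun_not hwb] at hZ
    apply habZ
    have h2 := (center Q).mul_mem ((center Q).inv_mem hc)
      ((inferInstance : (center Q).Normal).conj_mem' _ hZ (wb * wa))
    have h3 : ((wb * wa)⁻¹ * (wa * wb))⁻¹ * ((wb * wa)⁻¹ * (wa * (wb * a) * (wb * (wa * b))⁻¹) * (wb * wa)) =
        a * b⁻¹ := by group
    rwa [h3] at h2

/-- A lift in a complement of a transvection. -/
theorem lift_sq (hS : Setup z) (hz : z ∈ center Q) {L : Subgroup (MulAut Q)} (hd : Disjoint (Cfsg.Inn Q) L)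
    {a wa : Q} (ha : a * a = z) (haZ : a ∉ center Q) (hla : MulAut.conj wa * trAut hS ha ∈ L) :
    ¬ wa * a = a * wa := by
  intro h
  apply haZ
  have hmem := L.mul_mem hla hla
  rw [mul_assoc, ← mul_assoc (trAut hS ha), aut_mul_conj, trAut_apply, trFun_comm h, mul_assoc (MulAut.conj wa),
    trAut_sq, ← map_mul, ← map_mul] at hmem
  have hZ := mem_center_of_conj_eq_one (Subgroup.disjoint_def.1 hd ⟨_, rfl⟩ hmem)
  rcases hS.square wa with h2 | h2
  · rwa [← mul_assoc, h2, one_mul] at hZ
  · rw [← mul_assoc, h2] at hZ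
    simpa using (center Q).mul_mem ((center Q).inv_mem hz) hZ

variable [Finite Q]

/-- A centralizer has index at most two. -/
theorem card_centralizer (hS : Setup z) (T : Subgroup Q) (a : Q) :
    Nat.card T ≤ 2 * Nat.card (T ⊓ centralizer ({a} : Set Q) : Subgroup Q) := by
  classical
  set C := T ⊓ centralizer ({a} : Set Q)
  by_cases h : ∀ x ∈ T, x * a = a * x
  · have hC : C = T := inf_eq_left.2 fun x hx => mem_centralizer_singleton_iff.2 (h x hx)
    rw [hC]; omega
  push Not at h
  obtain ⟨s, hsT, hs⟩ := h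
  let f : T → C × Bool := fun x => if hx : (x : Q) * a = a * x then
    (⟨x, x.2, mem_centralizer_singleton_iff.2 hx⟩, false)
    else (⟨s * x, T.mul_mem hsT x.2, mem_centralizer_singleton_iff.2 (hS.comm_mul hs hx)⟩, true)
  have hf : Function.Injective f := by
    intro x y hxy
    simp only [f] at hxy
    split_ifs at hxy with h1 h2
    all_goals first
      | exact Subtype.ext (mul_left_cancel (congrArg (fun u => ((Prod.fst u : C) : Q)) hxy))
      | exact Subtype.ext (congrArg (fun u => ((Prod.fst u : C) : Q)) hxy :)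
      | exact absurd (congrArg Prod.snd hxy) Bool.false_ne_true
      | exact absurd (congrArg Prod.snd hxy).symm Bool.false_ne_true
  have := Nat.card_le_card_of_injective f hf
  rw [Nat.card_prod] at this
  rw [Nat.card_eq_fintype_card (α := Bool), Fintype.card_bool] at this
  omega

/-- A big subgroup has elements of order four outside a small one. -/
theorem exists_next (hS : Setup z) {T W : Subgroup Q} (hcard : Nat.card W * 4 ≤ Nat.card T) (hWT : W ≤ T)
    {w : Q} (hwT : w ∈ T) (hw : w * w ≠ 1) : ∃ t ∈ T, t ∉ W ∧ t * t = z := by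
  by_contra hno
  push Not at hno
  have hinv : ∀ t ∈ T, t ∉ W → t * t = 1 := fun t ht htW => (hS.square t).resolve_right (hno t ht htW)
  have hcen : ∀ s ∈ T, s ∉ W → ∀ t ∈ T, t * s = s * t := by
    intro s hs hsW
    set C := T ⊓ centralizer ({s} : Set Q)
    suffices hC : C = T by
      intro t ht
      exact mem_centralizer_singleton_iff.1 ((hC ▸ ht : t ∈ C).2)
    have hsub : ((T : Set Q) \ ((W : Set Q) ∪ s • (W : Set Q))) ∪ {1} ⊆ C := by
      rintro t (⟨ht, htW⟩ | rfl)
      · simp only [Set.mem_union, not_or, SetLike.mem_coe, Set.mem_smul_set_iff_inv_smul_mem, smul_eq_mul] at htW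
        refine ⟨ht, mem_centralizer_singleton_iff.2 ?_⟩
        have hs' : s⁻¹ = s := inv_eq_of_mul_eq_one_right (hinv s hs hsW)
        have ht' : t⁻¹ = t := inv_eq_of_mul_eq_one_right (hinv t ht htW.1)
        rw [hs'] at htW
        have h := inv_eq_of_mul_eq_one_right (hinv (s * t) (T.mul_mem hs ht) htW.2)
        rw [mul_inv_rev, hs', ht'] at h
        exact h
      · exact one_mem C
    have h1 : Nat.card C * 2 > Nat.card T := by
      have h2 := Set.ncard_le_ncard hsub (Set.toFinite _)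
      rw [Set.ncard_union_eq (by simp) (Set.toFinite _) (Set.toFinite _), Set.ncard_singleton] at h2
      have h3 : ((W : Set Q) ∪ s • (W : Set Q)).ncard ≤ 2 * Nat.card W := by
        refine (Set.ncard_union_le _ _).trans ?_
        rw [show (s • (W : Set Q)).ncard = (W : Set Q).ncard from Set.ncard_image_of_injective _ (MulAction.injective s), two_mul, ← Nat.card_coe_set_eq]
        rfl
      have h4 := Set.ncard_le_ncard_diff_add_ncard (T : Set Q) ((W : Set Q) ∪ s • (W : Set Q)) (Set.toFinite _)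
      rw [← Nat.card_coe_set_eq (T : Set Q)] at h4
      rw [← Nat.card_coe_set_eq (C : Set Q)] at h2
      simp only [SetLike.coe_sort_coe] at h2 h4
      omega
    by_contra hne
    obtain ⟨k, hk⟩ := Subgroup.card_dvd_of_le (inf_le_left : C ≤ T)
    have hk2 : 2 ≤ k := by
      rcases k with _ | _ | k
      · exact absurd hk (by rw [mul_zero]; exact Nat.card_pos.ne')
      · exact absurd (eq_of_le_of_card_ge inf_le_left (by rw [hk]; simp)) hne
      · omega
    rw [hk] at h1
    nlinarith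
  apply hw
  by_cases hwW : w ∈ W
  · obtain ⟨s, hs, hsW⟩ : ∃ s ∈ T, s ∉ W := by
      by_contra h
      push Not at h
      have := Subgroup.card_le_of_le (show T ≤ W from h)
      have := Nat.card_pos (α := W)
      omega
    obtain ⟨t, rfl⟩ : ∃ t, w = s * t := ⟨s⁻¹ * w, (mul_inv_cancel_left s w).symm⟩
    have htT : t ∈ T := by simpa using T.mul_mem (T.inv_mem hs) hwT
    have htW : t ∉ W := fun h => hsW (by simpa using W.mul_mem hwW (W.inv_mem h))
    rw [mul_assoc, ← mul_assoc t, hcen s hs hsW t htT, mul_assoc, hinv t htT htW, mul_one, hinv s hs hsW]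
  · exact hinv w hwT hwW

theorem not_split {n : ℕ} (hn : 3 ≤ n) (hQ : Cfsg.IsExtraspecial 2 Q) (hcard : Nat.card Q = 2 ^ (2 * n + 1))
    (L : Subgroup (MulAut Q)) : ¬ (Cfsg.Inn Q).IsComplement' L := by
  intro hc
  obtain ⟨z, hS, hz⟩ := exists_setup hQ
  have hcen : Nat.card (center Q) = 2 := hQ.2
  have h128 : 128 ≤ Nat.card Q := by
    rw [hcard, show (128 : ℕ) = 2 ^ 7 by norm_num]
    exact Nat.pow_le_pow_right two_pos (by omega)
  have hzZ : ∀ a : Q, a * a = z → a ∉ center Q := by
    intro a ha haZ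
    have h := pow_card_eq_one' (G := center Q) (x := ⟨a, haZ⟩)
    rw [hcen, pow_two] at h
    exact hS.one_ne (ha.symm.trans (congrArg Subtype.val h))
  have hZle : ∀ W : Subgroup Q, z ∈ W → center Q ≤ W := by
    intro W hW
    have : zpowers z = center Q := by
      refine eq_of_le_of_card_ge (zpowers_le.2 hz) ?_
      rw [hcen, Nat.card_zpowers, orderOf_eq_prime (p := 2) (by rw [pow_two, hS.sq]) hS.one_ne]
    exact this ▸ zpowers_le.2 hW
  obtain ⟨w, hw⟩ : ∃ w : Q, w * w ≠ 1 := by
    by_contra h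
    push Not at h
    have : center Q = ⊤ := eq_top_iff.2 fun x _ => mem_center_iff.2 fun y => by
      have h1 := inv_eq_of_mul_eq_one_right (h (y * x))
      rw [mul_inv_rev, inv_eq_of_mul_eq_one_right (h x), inv_eq_of_mul_eq_one_right (h y)] at h1
      exact h1.symm
    rw [this, card_top] at hcen
    omega
  obtain ⟨a1, -, ha1W, ha1⟩ := exists_next hS (T := ⊤) (W := center Q) (by rw [hcen, card_top]; omega)
    le_top (mem_top w) hw
  have ha1' : a1 * a1 ≠ 1 := ha1 ▸ hS.one_ne
  have ho : ∀ a : Q, a * a = z → orderOf a = 4 := fun a ha =>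
    orderOf_eq_prime_pow (p := 2) (n := 1) (by rw [pow_one, pow_two, ha]; exact hS.one_ne)
      (by rw [show (2 : ℕ) ^ (1 + 1) = 2 + 2 by norm_num, pow_add, pow_two, ha, hS.sq])
  have hzmem : ∀ a : Q, a * a = z → z ∈ zpowers a := fun a ha =>
    ha ▸ (zpowers a).mul_mem (mem_zpowers a) (mem_zpowers a)
  obtain ⟨T2, hT2d⟩ : ∃ T, T = (⊤ : Subgroup Q) ⊓ centralizer ({a1} : Set Q) := ⟨_, rfl⟩
  have hT2 := card_centralizer hS ⊤ a1
  rw [← hT2d] at hT2
  rw [card_top] at hT2
  have ha1T2 : a1 ∈ T2 := hT2d ▸ ⟨trivial, mem_centralizer_singleton_iff.2 rfl⟩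
  obtain ⟨a2, ha2T, ha2W, ha2⟩ := exists_next hS (T := T2) (W := zpowers a1)
    (by rw [Nat.card_zpowers, ho a1 ha1]; omega)
    (zpowers_le.2 ha1T2) ha1T2 ha1'
  have h12 : a2 * a1 = a1 * a2 := mem_centralizer_singleton_iff.1 ((hT2d ▸ ha2T : a2 ∈ (⊤ : Subgroup Q) ⊓ centralizer ({a1} : Set Q))).2
  obtain ⟨T3, hT3d⟩ : ∃ T, T = T2 ⊓ centralizer ({a2} : Set Q) := ⟨_, rfl⟩
  have hT3 := card_centralizer hS T2 a2
  rw [← hT3d] at hT3
  have ha1T3 : a1 ∈ T3 := hT3d ▸ ⟨ha1T2, mem_centralizer_singleton_iff.2 h12.symm⟩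
  have ha2T3 : a2 ∈ T3 := hT3d ▸ ⟨ha2T, mem_centralizer_singleton_iff.2 rfl⟩
  have hW3 : Nat.card (zpowers a1 ⊔ zpowers a2 : Subgroup Q) ≤ 8 := by
    have hn : zpowers a1 ≤ normalizer (zpowers a2 : Set Q) := by
      refine (zpowers_le.2 ?_).trans (centralizer_le_normalizer _)
      exact mem_centralizer_iff.2 fun x hx => by
        obtain ⟨i, rfl⟩ := mem_zpowers_iff.1 hx
        exact ((show Commute a2 a1 from h12).zpow_left i).eq
    have h := SolvBasic.card_sup_mul_card_inf hn
    rw [Nat.card_zpowers, Nat.card_zpowers, ho a1 ha1, ho a2 ha2, sup_comm, inf_comm] at h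
    have h2 : 2 ≤ Nat.card (zpowers a1 ⊓ zpowers a2 : Subgroup Q) := by
      refine (one_lt_card_iff_ne_bot _).2 fun h0 => hS.one_ne ?_
      rw [← mem_bot, ← h0]
      exact ⟨hzmem a1 ha1, hzmem a2 ha2⟩
    have h4 := Nat.mul_le_mul_left (Nat.card (zpowers a1 ⊔ zpowers a2 : Subgroup Q)) h2
    omega
  obtain ⟨a3, ha3T, ha3W, ha3⟩ := exists_next hS (T := T3) (W := zpowers a1 ⊔ zpowers a2)
    (by omega)
    (sup_le (zpowers_le.2 ha1T3) (zpowers_le.2 ha2T3)) ha1T3 ha1'
  subst hT3d hT2d
  have h13 : a3 * a1 = a1 * a3 := mem_centralizer_singleton_iff.1 ha3T.1.2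
  have h23 : a3 * a2 = a2 * a3 := mem_centralizer_singleton_iff.1 ha3T.2
  obtain ⟨a4, ha4⟩ : ∃ a, a = a1 * (a2 * a3) := ⟨_, rfl⟩
  have ha4z : a4 * a4 = z := by
    have h : Commute a1 (a2 * a3) := (show Commute a1 a2 from h12.symm).mul_right h13.symm
    calc a4 * a4 = a1 * a1 * ((a2 * a3) * (a2 * a3)) := by rw [ha4, h.mul_mul_mul_comm]
      _ = a1 * a1 * ((a2 * a2) * (a3 * a3)) := by rw [(show Commute a3 a2 from h23).mul_mul_mul_comm]
      _ = z := by rw [ha1, ha2, ha3, hS.sq, mul_one]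
  have h14 : a1 * a4 = a4 * a1 := by
    rw [ha4]
    exact ((Commute.refl a1).mul_right ((show Commute a1 a2 from h12.symm).mul_right h13.symm)).eq
  -- lifts
  have hlift : ∀ (a : Q) (ha : a * a = z), ∃ w, MulAut.conj w * trAut hS ha ∈ L := by
    intro a ha
    obtain ⟨⟨⟨i, w, rfl⟩, l, hl⟩, e⟩ := hc.2 (trAut hS ha)
    refine ⟨w⁻¹, ?_⟩
    rw [map_inv, ← e]
    simpa using hl
  have hd := hc.disjoint
  obtain ⟨w1, hw1⟩ := hlift a1 ha1
  obtain ⟨w2, hw2⟩ := hlift a2 ha2
  obtain ⟨w3, hw3⟩ := hlift a3 ha3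
  obtain ⟨w4, hw4⟩ := hlift a4 ha4z
  have hne : ∀ {x y : Q}, ∀ W : Subgroup Q, z ∈ W → x ∈ W → y ∉ W → x * y⁻¹ ∉ center Q := by
    intro x y W hzW hx hy h
    exact hy (by simpa using W.mul_mem (W.inv_mem (hZle W hzW h)) hx)
  have e2 := lift_comm hS hd ha1 ha2 h12.symm (hzZ a1 ha1) (hzZ a2 ha2)
    (hne (zpowers a1) (hzmem a1 ha1) (mem_zpowers a1) ha2W) hw1 hw2
  have e3 := lift_comm hS hd ha1 ha3 h13.symm (hzZ a1 ha1) (hzZ a3 ha3)
    (hne (zpowers a1 ⊔ zpowers a2) (mem_sup_left (hzmem a1 ha1)) (mem_sup_left (mem_zpowers a1)) ha3W) hw1 hw3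
  have e4 := lift_comm hS hd ha1 ha4z h14 (hzZ a1 ha1) (hzZ a4 ha4z)
    (hne (zpowers a1 ⊔ zpowers a2) (mem_sup_left (hzmem a1 ha1)) (mem_sup_left (mem_zpowers a1)) (fun h => ha3W (by
      have h' := (zpowers a1 ⊔ zpowers a2).mul_mem ((zpowers a1 ⊔ zpowers a2).inv_mem
        ((zpowers a1 ⊔ zpowers a2).mul_mem (mem_sup_left (mem_zpowers a1)) (mem_sup_right (mem_zpowers a2)))) h
      rwa [ha4, ← mul_assoc a1, inv_mul_cancel_left] at h'))) hw1 hw4
  refine lift_sq hS hz hd ha1 (hzZ a1 ha1) hw1 ?_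
  have h23' : Commute w1 (a2 * a3) := (show Commute w1 a2 from e2).mul_right e3
  have := (show Commute w1 a4 from e4).mul_right h23'.inv_right
  rw [ha4, mul_inv_cancel_right] at this
  exact this

end Cfsg.Agent.XNonSplit
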