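/-
Sylow subgroups which are extraspecial of order p³ and exponent p²: the centre is strongly closed.
-/
import Cfsg.Prelude.Def_Transfer
import Cfsg.Prelude.Def_TwoFusion
import Cfsg.Agent.Lib.CentrallyLarge.Invariant
import Cfsg.Agent.Lib.Transfer.Basic
import Mathlib.GroupTheory.Transfer
import Mathlib.GroupTheory.SpecificGroups.Cyclic

namespace Cfsg.Agent.ExpSq

open Subgroup
open scoped commutatorElement

theorem conj_pow_of_central {M : Type*} [Group M] {a b e : M} (h : b * a = e * (a * b))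
    (heb : Commute e b) (k : ℕ) : b ^ k * a = e ^ k * (a * b ^ k) := by
  induction k with
  | zero => simp
  | succ k ih =>
    calc b ^ (k + 1) * a = b ^ k * (b * a) := by rw [pow_succ, mul_assoc]
      _ = b ^ k * (e * (a * b)) := by rw [h]
      _ = e * (b ^ k * a) * b := by
        rw [← mul_assoc, ← mul_assoc, ((heb.pow_right k).symm).eq]; group
      _ = e * (e ^ k * (a * b ^ k)) * b := by rw [ih]
      _ = e ^ (k + 1) * (a * b ^ (k + 1)) := by rw [pow_succ', pow_succ b]; simp only [mul_assoc]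

theorem mul_pow_of_central {M : Type*} [Group M] {a b e : M} (h : b * a = e * (a * b))
    (hea : Commute e a) (heb : Commute e b) (k : ℕ) :
    (a * b) ^ k = e ^ k.choose 2 * (a ^ k * b ^ k) := by
  induction k with
  | zero => simp
  | succ k ih =>
    rw [pow_succ, ih, Nat.choose_succ_succ', Nat.choose_one_right]
    calc e ^ k.choose 2 * (a ^ k * b ^ k) * (a * b)
        = e ^ k.choose 2 * a ^ k * (b ^ k * a) * b := by group
      _ = e ^ k.choose 2 * a ^ k * (e ^ k * (a * b ^ k)) * b := by rw [conj_pow_of_central h heb]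
      _ = e ^ k.choose 2 * (a ^ k * e ^ k) * (a * b ^ k) * b := by group
      _ = e ^ k.choose 2 * (e ^ k * a ^ k) * (a * b ^ k) * b := by
        rw [((hea.pow_left k).pow_right k).eq]
      _ = e ^ (k + k.choose 2) * (a ^ (k + 1) * b ^ (k + 1)) := by
        rw [add_comm k, pow_add, pow_succ a, pow_succ b]; simp only [mul_assoc]

theorem dvd_choose_two {p : ℕ} (hp : p.Prime) (h2 : p ≠ 2) : p ∣ p.choose 2 :=
  hp.dvd_choose_self two_ne_zero (lt_of_le_of_ne hp.two_le (Ne.symm h2))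

theorem abstract_facts {p : ℕ} [Fact p.Prime] (hp2 : p ≠ 2) {P : Type*} [Group P] [Finite P]
    (hE : Cfsg.IsExtraspecial p P) (hcard : Nat.card P = p ^ 3)
    (hexp : Monoid.exponent P = p ^ 2) :
    ∃ E : Subgroup P, (∀ x, x ∈ E ↔ x ^ p = 1) ∧ Nat.card E = p ^ 2 ∧ center P ≤ E ∧
      (∀ x : P, x ^ p ∈ center P) := by
  have hp : p.Prime := Fact.out
  obtain ⟨⟨hPp, -, hder⟩, hZ⟩ := hE
  have hne : center P ≠ ⊤ := fun h => by
    rw [h, card_top, hcard] at hZ
    have : p ^ 1 < p ^ 3 := Nat.pow_lt_pow_right hp.one_lt (by norm_num)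
    rw [pow_one] at this
    omega
  have hidx : (center P).index = p ^ 2 := by
    have h := (center P).card_mul_index
    rw [hZ, hcard] at h
    exact Nat.eq_of_mul_eq_mul_left hp.pos (h.trans (by ring))
  have hpowZ : ∀ x : P, x ^ p ∈ center P := by
    intro x
    rw [← QuotientGroup.eq_one_iff]
    show ((x ^ p : P) : P ⧸ center P) = 1
    rw [QuotientGroup.mk_pow]
    by_contra hx
    have hd : orderOf (x : P ⧸ center P) ∣ p ^ 2 := by
      rw [← hidx, index_eq_card]; exact orderOf_dvd_natCard _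
    obtain ⟨k, hk, hk'⟩ := (Nat.dvd_prime_pow hp).1 hd
    rcases (show k ≤ 1 ∨ k = 2 by omega) with hk1 | rfl
    · exact hx (orderOf_dvd_iff_pow_eq_one.1 (hk' ▸ (pow_dvd_pow p hk1).trans (pow_one p).dvd))
    · have hcyc : IsCyclic (P ⧸ center P) := isCyclic_of_orderOf_eq_card (x : P ⧸ center P)
        (by rw [hk', ← index_eq_card, hidx])
      have := isMulCommutative_of_isCyclic_quotient_center_self (G := P)
      exact hne (eq_top_iff.2 fun a _ => mem_center_iff.2 fun b => this.is_comm.comm b a)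
  have hzp : ∀ z ∈ center P, z ^ p = 1 := fun z hz => by
    have := pow_card_eq_one' (x := (⟨z, hz⟩ : center P))
    rw [hZ] at this
    exact congrArg Subtype.val this
  let φ : P →* center P :=
    { toFun := fun x => ⟨x ^ p, hpowZ x⟩
      map_one' := Subtype.ext (one_pow p)
      map_mul' := fun a b => by
        refine Subtype.ext ?_
        show (a * b) ^ p = a ^ p * b ^ p
        have he : ⁅b, a⁆ ∈ center P := hder ▸ commutator_mem_commutator (mem_top b) (mem_top a)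
        rw [mul_pow_of_central (e := ⁅b, a⁆) (by rw [commutatorElement_def]; group)
          ((mem_center_iff.1 he a).symm) ((mem_center_iff.1 he b).symm)]
        obtain ⟨c, hc⟩ := dvd_choose_two hp hp2
        rw [hc, pow_mul, hzp _ he, one_pow, one_mul] }
  have hmem : ∀ x, x ∈ φ.ker ↔ x ^ p = 1 := fun x =>
    ⟨fun h => congrArg Subtype.val h, fun h => Subtype.ext h⟩
  have hsurj : φ.range = ⊤ := by
    have hd := card_subgroup_dvd_card φ.range
    rw [hZ] at hd
    rcases hp.eq_one_or_self_of_dvd _ hd with h | h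
    · exfalso
      have hb := eq_bot_of_card_eq _ h
      have : Monoid.exponent P ∣ p := Monoid.exponent_dvd_of_forall_pow_eq_one fun x => by
        have h1 : φ x ∈ φ.range := ⟨x, rfl⟩
        rw [hb, mem_bot] at h1
        exact congrArg Subtype.val h1
      rw [hexp] at this
      have h2 := Nat.le_of_dvd hp.pos this
      have : p ^ 1 < p ^ 2 := Nat.pow_lt_pow_right hp.one_lt (by norm_num)
      rw [pow_one] at this
      omega
    · exact eq_top_of_card_eq _ (h.trans hZ.symm)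
  refine ⟨φ.ker, hmem, ?_, fun z hz => (hmem z).2 (hzp z hz), hpowZ⟩
  have h := φ.ker.card_mul_index
  rw [index_ker, hsurj, card_top, hZ, hcard] at h
  exact Nat.eq_of_mul_eq_mul_right hp.pos (h.trans (by ring))

theorem center_stronglyClosed {G : Type*} [Group G] [Finite G] {p : ℕ} [Fact p.Prime] (hp2 : p ≠ 2)
    (P : Sylow p G) (hE : Cfsg.IsExtraspecial p P) (hcard : Nat.card P = p ^ 3)
    (hexp : Monoid.exponent P = p ^ 2) :
    Cfsg.IsStronglyClosed ((center P).map (P : Subgroup G).subtype) (P : Subgroup G) := by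
  have hp : p.Prime := Fact.out
  refine ⟨map_subtype_le _, ?_⟩
  rintro _ ⟨z0, hz0, rfl⟩ g hgP
  change g * (z0 : G) * g⁻¹ ∈ _
  by_contra htZ
  obtain ⟨E', hmemE', hcE', hZE', hpowZ⟩ := abstract_facts hp2 hE hcard hexp
  have hzp : (z0 : G) ^ p = 1 := congrArg Subtype.val ((hmemE' z0).1 (hZE' hz0))
  set E := E'.map (P : Subgroup G).subtype with hEdef
  have hΩ : ∀ x, x ∈ E ↔ x ∈ (P : Subgroup G) ∧ x ^ p = 1 := by
    intro x
    constructor
    · rintro ⟨y, hy, rfl⟩; exact ⟨y.2, congrArg Subtype.val ((hmemE' y).1 hy)⟩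
    · rintro ⟨hx, hxp⟩; exact ⟨⟨x, hx⟩, (hmemE' _).2 (Subtype.ext hxp), rfl⟩
  have hEP : E ≤ (P : Subgroup G) := map_subtype_le _
  have hcE : Nat.card E = p ^ 2 := by
    rw [hEdef, card_map_of_injective (P : Subgroup G).subtype_injective, hcE']
  have hEab : E ≤ centralizer (E : Set G) :=
    le_centralizer_iff_isMulCommutative.2 (IsPGroup.isMulCommutative_of_card_eq_prime_sq hcE)
  set Z := (center P).map (P : Subgroup G).subtype with hZdef
  have hZE : Z ≤ E := map_mono hZE'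
  obtain ⟨t, ht⟩ : ∃ t, t = g * (z0 : G) * g⁻¹ := ⟨_, rfl⟩
  replace hgP : t ∈ (P : Subgroup G) := ht ▸ hgP
  replace htZ : t ∉ Z := ht ▸ htZ
  have htp : t ^ p = 1 := by rw [ht, conj_pow, hzp]; group
  have htE : t ∈ E := (hΩ t).2 ⟨hgP, htp⟩
  -- choose the conjugating element in the normaliser of `E`
  obtain ⟨n, hn, hnt⟩ : ∃ n, n ∈ normalizer (E : Set G) ∧ n * (z0 : G) * n⁻¹ = t := by
    set D := centralizer ({t} : Set G) with hD
    have hED : E ≤ D := fun x hx => mem_centralizer_iff.2 fun y hy => by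
      rw [Set.mem_singleton_iff.1 hy]; exact (mem_centralizer_iff.1 (hEab hx) t htE)
    set R0 := (P : Subgroup G).map (MulAut.conj g).toMonoidHom with hR0
    have hR0D : R0 ≤ D := by
      rintro _ ⟨x, hx, rfl⟩
      refine mem_centralizer_iff.2 fun y hy => ?_
      rw [Set.mem_singleton_iff.1 hy]
      show t * (g * x * g⁻¹) = g * x * g⁻¹ * t
      rw [ht]
      have hc : (z0 : G) * x = x * (z0 : G) :=
        congrArg Subtype.val (mem_center_iff.1 hz0 ⟨x, hx⟩).symm
      calc g * (z0 : G) * g⁻¹ * (g * x * g⁻¹) = g * ((z0 : G) * x) * g⁻¹ := by group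
        _ = g * (x * (z0 : G)) * g⁻¹ := by rw [hc]
        _ = g * x * g⁻¹ * (g * (z0 : G) * g⁻¹) := by group
    obtain ⟨S1, hS1⟩ := ((P.isPGroup'.to_le hEP).comap_subtype (K := D)).exists_le_sylow
    have hR0p : IsPGroup p (R0.subgroupOf D) := (P.isPGroup'.map _).comap_subtype
    obtain ⟨S2, hS2⟩ := hR0p.exists_le_sylow
    have hS2c : (S2 : Subgroup D) = R0.subgroupOf D := by
      refine (eq_of_le_of_card_ge hS2 ?_).symm
      rw [Nat.card_congr (subgroupOfEquivOfLe hR0D).toEquiv, hR0,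
        card_map_of_injective (MulEquiv.injective _), ← card_map_of_injective D.subtype_injective]
      obtain ⟨S3, hS3⟩ := (S2.isPGroup'.map D.subtype).exists_le_sylow
      exact (card_le_of_le hS3).trans (Nat.card_congr (Sylow.equiv S3 P).toEquiv).le
    obtain ⟨c, hc⟩ := MulAction.exists_smul_eq D S2 S1
    refine ⟨(c : G) * g, ?_, ?_⟩
    · have hsub : ∀ x ∈ E, ∃ y ∈ (P : Subgroup G), ((c : G) * g) * y * ((c : G) * g)⁻¹ = x := by
        intro x hx
        have h1 : (⟨x, hED hx⟩ : D) ∈ (S1 : Subgroup D) := hS1 hx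
        rw [← hc, Sylow.smul_def, Sylow.pointwise_smul_def, hS2c,
          mem_pointwise_smul_iff_inv_smul_mem] at h1
        obtain ⟨y, hy, e⟩ := mem_subgroupOf.1 h1
        have e' : g * y * g⁻¹ = ((c : G))⁻¹ * x * (c : G) := by simpa [MulAut.smul_def] using e
        exact ⟨y, hy, by rw [mul_inv_rev, show (c : G) * g * y * (g⁻¹ * (c : G)⁻¹) =
          (c : G) * (g * y * g⁻¹) * (c : G)⁻¹ by group, e']; group⟩
      rw [← inv_mem_iff]
      refine (CLarge.le_normalizer_of_forall (S := zpowers ((c : G) * g)⁻¹) (H := E) ?_) (mem_zpowers _)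
      intro w hw
      have hmap : E.map (MulAut.conj ((c : G) * g)⁻¹).toMonoidHom = E := by
        refine eq_of_le_of_card_ge ?_ (Product.card_map_conj E _).ge
        rintro _ ⟨x, hx, rfl⟩
        obtain ⟨y, hy, e⟩ := hsub x hx
        have he : (MulAut.conj ((c : G) * g)⁻¹).toMonoidHom x = y := by
          rw [← e]; simp [mul_assoc]
        rw [he]
        refine (hΩ y).2 ⟨hy, ?_⟩
        rw [← he, ← map_pow, ((hΩ x).1 hx).2, map_one]
      have hN : ((c : G) * g)⁻¹ ∈ normalizer (E : Set G) := mem_normalizer_iff_map_conj_eq.2 hmap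
      exact fun x hx => CLarge.conj_mem (zpowers_le.2 hN hw) hx
    · have h2 : t * (c : G) = (c : G) * t := mem_centralizer_iff.1 c.2 t rfl
      calc (c : G) * g * (z0 : G) * ((c : G) * g)⁻¹ = (c : G) * t * (c : G)⁻¹ := by rw [ht]; group
        _ = t := by rw [← h2]; group
  -- an element of `P` outside `E`
  obtain ⟨u, huP, huE⟩ : ∃ u, u ∈ (P : Subgroup G) ∧ u ∉ E := by
    by_contra hcon
    have h := card_le_of_le (show (P : Subgroup G) ≤ E from fun x hx => by
      by_contra hx'; exact hcon ⟨x, hx, hx'⟩)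
    rw [hcE, hcard] at h
    exact absurd h (not_le.2 (Nat.pow_lt_pow_right hp.one_lt (by norm_num)))
  have hmax : ∀ x, x ∈ (P : Subgroup G) → x ∉ E → (P : Subgroup G) = E ⊔ zpowers x := by
    intro x hx hxE
    refine (eq_of_le_of_card_ge (sup_le hEP (zpowers_le.2 hx)) ?_).symm
    have hlt : E < E ⊔ zpowers x := lt_of_le_of_ne le_sup_left
      fun h => hxE (h ▸ mem_sup_right (mem_zpowers x))
    obtain ⟨k, hk⟩ := (P.isPGroup'.to_le (sup_le hEP (zpowers_le.2 hx))).exists_card_eq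
    rw [hk, hcard]
    refine Nat.pow_le_pow_right hp.pos ?_
    by_contra hk3
    refine hlt.ne (eq_of_le_of_card_ge hlt.le ?_)
    rw [hk, hcE]
    exact Nat.pow_le_pow_right hp.pos (by omega)
  have hZc : ∀ w ∈ Z, ∀ x ∈ (P : Subgroup G), w * x = x * w := by
    rintro _ ⟨w, hw, rfl⟩ x hx
    exact congrArg Subtype.val (mem_center_iff.1 hw ⟨x, hx⟩).symm
  have hcom : ∀ x ∈ (P : Subgroup G), ∀ y ∈ (P : Subgroup G), x * y * x⁻¹ * y⁻¹ ∈ Z := by
    intro x hx y hy
    refine ⟨⁅(⟨x, hx⟩ : P), (⟨y, hy⟩ : P)⁆, ?_, rfl⟩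
    rw [SetLike.mem_coe, ← hE.1.2.2]
    exact commutator_mem_commutator (mem_top _) (mem_top _)
  obtain ⟨a, hadef⟩ : ∃ a, a = u ^ p := ⟨_, rfl⟩
  have haZ : a ∈ Z := hadef ▸ ⟨(⟨u, huP⟩ : P) ^ p, hpowZ _, rfl⟩
  have ha1 : a ≠ 1 := fun h => huE ((hΩ u).2 ⟨huP, hadef.symm.trans h⟩)
  have hZcard : Nat.card Z = p := by rw [hZdef, card_map_of_injective (P : Subgroup G).subtype_injective, hE.2]
  have hgenZ : ∀ w ∈ Z, w ≠ 1 → zpowers w = Z := by
    intro w hw hw1
    refine eq_of_le_of_card_ge (zpowers_le.2 hw) ?_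
    rw [hZcard, Nat.card_zpowers]
    rcases hp.eq_one_or_self_of_dvd _ (hZcard ▸ orderOf_dvd_natCard Z hw) with h | h
    · exact absurd (orderOf_eq_one_iff.1 h) hw1
    · exact h.ge
  obtain ⟨z, hzdef⟩ : ∃ z, z = t⁻¹ * (u * t * u⁻¹) := ⟨_, rfl⟩
  have hzZ : z ∈ Z := by
    have h := hcom u huP t hgP
    have h' := hZc _ h t hgP
    have : z = u * t * u⁻¹ * t⁻¹ := by
      rw [hzdef]
      calc t⁻¹ * (u * t * u⁻¹) = t⁻¹ * (u * t * u⁻¹ * t⁻¹ * t) := by group
        _ = t⁻¹ * (t * (u * t * u⁻¹ * t⁻¹)) := by rw [h']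
        _ = u * t * u⁻¹ * t⁻¹ := by group
    rw [this]; exact h
  have hz1 : z ≠ 1 := by
    intro h
    rw [hzdef, inv_mul_eq_one] at h
    refine htZ ⟨⟨t, hgP⟩, mem_center_iff.2 fun y => Subtype.ext ?_, rfl⟩
    show (y : G) * t = t * (y : G)
    have hyS : (P : Subgroup G) ≤ centralizer ({t} : Set G) := by
      rw [hmax u huP huE]
      refine sup_le (fun x hx => mem_centralizer_singleton_iff.2
        (mem_centralizer_iff.1 (hEab hx) t htE).symm) (zpowers_le.2 (mem_centralizer_singleton_iff.2 ?_))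
      nth_rewrite 2 [h]
      group
    exact mem_centralizer_singleton_iff.1 (hyS y.2)
  have hzE : z ∈ E := hZE hzZ
  have huz : u * z * u⁻¹ = z := by rw [← hZc z hzZ u huP]; group
  have hut : u * t * u⁻¹ = t * z := by rw [hzdef]; group
  -- a transvection fixing `t`
  obtain ⟨r, hr⟩ : ∃ r, r = n * u * n⁻¹ := ⟨_, rfl⟩
  have hrt : r * t * r⁻¹ = t := by
    rw [← hnt, hr]
    have h := hZc (z0 : G) ⟨z0, hz0, rfl⟩ u huP
    calc n * u * n⁻¹ * (n * (z0 : G) * n⁻¹) * (n * u * n⁻¹)⁻¹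
        = n * (u * (z0 : G) * u⁻¹) * n⁻¹ := by group
      _ = n * (z0 : G) * n⁻¹ := by rw [← h]; group
  have htne : t ≠ 1 := fun h => htZ (h ▸ one_mem _)
  have hnZ : ∀ w ∈ Z, n * w * n⁻¹ ∈ zpowers t := by
    intro w hw
    have hz0ne : (z0 : G) ≠ 1 := fun h => htne (by rw [ht, h]; group)
    rw [← hgenZ _ ⟨z0, hz0, rfl⟩ hz0ne] at hw
    obtain ⟨i, rfl⟩ := mem_zpowers_iff.1 hw
    exact mem_zpowers_iff.2 ⟨i, by rw [← hnt, conj_zpow]; rfl⟩
  obtain ⟨d, hd, hd'⟩ : ∃ d, d ∈ zpowers t ∧ r * z * r⁻¹ = z * d := by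
    have hzn : n⁻¹ * z * n ∈ E := by simpa using CLarge.conj_mem (inv_mem hn) hzE
    refine ⟨z⁻¹ * (r * z * r⁻¹), ?_, by group⟩
    have h := hnZ _ (hcom (n⁻¹ * z * n)⁻¹ (inv_mem (hEP hzn)) u huP)
    rw [hr]
    convert h using 1
    group
  have hd1 : d ≠ 1 := by
    intro hd0
    rw [hd0, mul_one] at hd'
    have hzn : n⁻¹ * z * n ∈ E := by simpa using CLarge.conj_mem (inv_mem hn) hzE
    have hcomm : u * (n⁻¹ * z * n) = n⁻¹ * z * n * u := by
      have : n⁻¹ * (r * z * r⁻¹) * n = n⁻¹ * z * n := by rw [hd']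
      rw [hr] at this
      calc u * (n⁻¹ * z * n) = n⁻¹ * (n * u * n⁻¹ * z * (n * u * n⁻¹)⁻¹) * n * u := by group
        _ = n⁻¹ * z * n * u := by rw [this]
    have hmemZ : n⁻¹ * z * n ∈ Z := by
      refine ⟨⟨_, hEP hzn⟩, mem_center_iff.2 fun y => Subtype.ext ?_, rfl⟩
      show (y : G) * (n⁻¹ * z * n) = n⁻¹ * z * n * (y : G)
      have hyS : (P : Subgroup G) ≤ centralizer ({n⁻¹ * z * n} : Set G) := by
        rw [hmax u huP huE]
        exact sup_le (fun x hx => mem_centralizer_singleton_iff.2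
          (mem_centralizer_iff.1 (hEab hx) _ hzn).symm)
          (zpowers_le.2 (mem_centralizer_singleton_iff.2 hcomm))
      exact mem_centralizer_singleton_iff.1 (hyS y.2)
    have hzt : z ∈ zpowers t := by
      have h := hnZ _ hmemZ
      simpa [mul_assoc] using h
    refine htZ ((?_ : zpowers t ≤ Z) (mem_zpowers t))
    rw [← hgenZ z hzZ hz1, zpowers_le]
    obtain ⟨i, hi⟩ := mem_zpowers_iff.1 hzt
    have hot : orderOf t = p := orderOf_eq_prime htp htne
    have : zpowers z = zpowers t := eq_of_le_of_card_ge (zpowers_le.2 ⟨i, hi⟩) (by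
      rw [Nat.card_zpowers, hot, hgenZ z hzZ hz1, hZcard])
    rw [this]; exact mem_zpowers t
  obtain ⟨m, hm⟩ : ∃ m : ℤ, d ^ m = t⁻¹ := by
    obtain ⟨i, rfl⟩ := mem_zpowers_iff.1 hd
    have hot : orderOf t = p := orderOf_eq_prime htp htne
    have hsub : zpowers (t ^ i) = zpowers t := by
      refine eq_of_le_of_card_ge (zpowers_le.2 ⟨i, rfl⟩) ?_
      rw [Nat.card_zpowers, Nat.card_zpowers, hot]
      have hdv : orderOf (t ^ i) ∣ p := orderOf_dvd_of_pow_eq_one (by
        rw [← zpow_natCast, ← zpow_mul, mul_comm, zpow_mul, zpow_natCast, htp, one_zpow])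
      rcases hp.eq_one_or_self_of_dvd _ hdv with h | h
      · exact absurd (orderOf_eq_one_iff.1 h) hd1
      · exact h.ge
    exact mem_zpowers_iff.1 (hsub ▸ inv_mem (mem_zpowers t))
  have hrm : ∀ k : ℤ, r ^ k * z * (r ^ k)⁻¹ = z * d ^ k := by
    obtain ⟨i, hi⟩ := mem_zpowers_iff.1 hd
    have hrd : r * d * r⁻¹ = d := by rw [← hi, ← conj_zpow, hrt]
    have hd'' : r⁻¹ * z * r = z * d⁻¹ := by
      have : r⁻¹ * (z * d) * r = z := by rw [← hd']; group
      have hrd' : r⁻¹ * d * r = d := by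
        nth_rewrite 1 [← hrd]; group
      calc r⁻¹ * z * r = (r⁻¹ * (z * d) * r) * (r⁻¹ * d * r)⁻¹ := by group
        _ = z * d⁻¹ := by rw [this, hrd']
    intro k
    have hpk : ∀ k : ℤ, r ^ k * d * (r ^ k)⁻¹ = d := fun k => by
      have hc : Commute r d := by
        calc r * d = r * d * r⁻¹ * r := by group
          _ = d * r := by rw [hrd]
      rw [(hc.zpow_left k).eq]; group
    induction k with
    | zero => simp
    | succ k ih =>
      calc r ^ ((k : ℤ) + 1) * z * (r ^ ((k : ℤ) + 1))⁻¹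
          = r ^ (k : ℤ) * (r * z * r⁻¹) * (r ^ (k : ℤ))⁻¹ := by group
        _ = r ^ (k : ℤ) * z * (r ^ (k : ℤ))⁻¹ * (r ^ (k : ℤ) * d * (r ^ (k : ℤ))⁻¹) := by
          rw [hd']; group
        _ = z * d ^ ((k : ℤ) + 1) := by rw [ih, hpk, zpow_add_one]; group
    | pred k ih =>
      calc r ^ (-(k : ℤ) - 1) * z * (r ^ (-(k : ℤ) - 1))⁻¹
          = r ^ (-(k : ℤ)) * (r⁻¹ * z * r) * (r ^ (-(k : ℤ)))⁻¹ := by group
        _ = r ^ (-(k : ℤ)) * z * (r ^ (-(k : ℤ)))⁻¹ * (r ^ (-(k : ℤ)) * d * (r ^ (-(k : ℤ)))⁻¹)⁻¹ := by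
          rw [hd'']; group
        _ = z * d ^ (-(k : ℤ) - 1) := by rw [ih, hpk, zpow_sub_one]; group
  obtain ⟨r', hr'⟩ : ∃ r', r' = r ^ m := ⟨_, rfl⟩
  have hr'z : r' * z * r'⁻¹ = z * t⁻¹ := by rw [hr', hrm, hm]
  have hr't : r' * t * r'⁻¹ = t := by
    have hc : Commute r t := by
      calc r * t = r * t * r⁻¹ * r := by group
        _ = t * r := by rw [hrt]
    rw [hr', (hc.zpow_left m).eq]; group
  obtain ⟨w, hw⟩ : ∃ w, w = u * r' * u := ⟨_, rfl⟩
  have htz : t * z = z * t := mem_centralizer_iff.1 (hEab hzE) t htE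
  have hwz : w * z * w⁻¹ = t⁻¹ := by
    calc w * z * w⁻¹ = u * (r' * (u * z * u⁻¹) * r'⁻¹) * u⁻¹ := by rw [hw]; group
      _ = u * (z * t⁻¹) * u⁻¹ := by rw [huz, hr'z]
      _ = u * z * u⁻¹ * (u * t * u⁻¹)⁻¹ := by group
      _ = t⁻¹ := by rw [huz, hut]; group
  have hwt : w * t * w⁻¹ = z := by
    calc w * t * w⁻¹ = u * (r' * (u * t * u⁻¹) * r'⁻¹) * u⁻¹ := by rw [hw]; group
      _ = u * ((r' * t * r'⁻¹) * (r' * z * r'⁻¹)) * u⁻¹ := by rw [hut]; group
      _ = u * (t * (z * t⁻¹)) * u⁻¹ := by rw [hr't, hr'z]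
      _ = u * z * u⁻¹ := by rw [← mul_assoc t, htz]; group
      _ = z := huz
  obtain ⟨j, hj⟩ : ∃ j, j = w * w := ⟨_, rfl⟩
  have hjz : j * z * j⁻¹ = z⁻¹ := by
    calc j * z * j⁻¹ = w * (w * z * w⁻¹) * w⁻¹ := by rw [hj]; group
      _ = (w * t * w⁻¹)⁻¹ := by rw [hwz]; group
      _ = z⁻¹ := by rw [hwt]
  have hjt : j * t * j⁻¹ = t⁻¹ := by
    calc j * t * j⁻¹ = w * (w * t * w⁻¹) * w⁻¹ := by rw [hj]; group
      _ = t⁻¹ := by rw [hwt, hwz]
  have hEgen : ∀ x ∈ E, ∃ i k : ℤ, x = z ^ i * t ^ k := by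
    have hle : zpowers z ⊔ zpowers t ≤ E := sup_le (zpowers_le.2 hzE) (zpowers_le.2 htE)
    have hot : orderOf t = p := orderOf_eq_prime htp htne
    have hdisj : zpowers z ⊓ zpowers t = ⊥ := by
      rw [eq_bot_iff]
      intro x hx
      rw [mem_bot]
      by_contra hx1
      have e1 : zpowers x = zpowers t := eq_of_le_of_card_ge (zpowers_le.2 hx.2) (by
        rw [Nat.card_zpowers, Nat.card_zpowers, hot]
        rcases hp.eq_one_or_self_of_dvd _ (hZcard ▸ orderOf_dvd_natCard Z ((hgenZ z hzZ hz1) ▸ hx.1)) with h | h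
        · exact absurd (orderOf_eq_one_iff.1 h) hx1
        · exact h.ge)
      have : t ∈ zpowers z := zpowers_le.2 hx.1 (e1 ▸ mem_zpowers t)
      rw [hgenZ z hzZ hz1] at this
      exact htZ this
    have heq := eq_of_le_of_card_ge hle (by
      have := Product.card_mul_card_le (zpowers z) (zpowers t)
      rw [hdisj, card_bot, mul_one, hgenZ z hzZ hz1, hZcard, Nat.card_zpowers, hot] at this
      rw [hcE, sq, hgenZ z hzZ hz1]; exact this)
    intro x hx
    rw [← heq] at hx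
    have hnorm : zpowers t ≤ normalizer (zpowers z : Set G) := by
      refine le_trans ?_ (centralizer_le_normalizer _)
      rw [zpowers_le, mem_centralizer_iff]
      intro y hy
      obtain ⟨i, rfl⟩ := mem_zpowers_iff.1 hy
      exact (((show Commute z t from htz.symm).zpow_left i)).eq
    rw [← SetLike.mem_coe, coe_mul_of_right_le_normalizer_left _ _ hnorm] at hx
    obtain ⟨y, hy, v, hv, rfl⟩ := hx
    obtain ⟨i, rfl⟩ := mem_zpowers_iff.1 hy
    obtain ⟨k, rfl⟩ := mem_zpowers_iff.1 hv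
    exact ⟨i, k, rfl⟩
  have hjE : ∀ x ∈ E, j * x * j⁻¹ = x⁻¹ := by
    intro x hx
    obtain ⟨i, k, rfl⟩ := hEgen x hx
    calc j * (z ^ i * t ^ k) * j⁻¹ = (j * z * j⁻¹) ^ i * (j * t * j⁻¹) ^ k := by
          rw [conj_zpow, conj_zpow]; group
      _ = (z ^ i * t ^ k)⁻¹ := by
          rw [hjz, hjt, mul_inv_rev, inv_zpow, inv_zpow]
          exact (((show Commute z t from htz.symm).zpow_zpow i k).inv_inv).eq
  have huN : u ∈ normalizer (E : Set G) := by
    refine (CLarge.le_normalizer_of_forall (S := (P : Subgroup G)) (H := E) ?_) huP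
    intro v hv x hx
    exact (hΩ _).2 ⟨mul_mem (mul_mem hv (hEP hx)) (inv_mem hv), by rw [conj_pow, ((hΩ x).1 hx).2]; group⟩
  -- the centraliser of `E` and a retraction to `E`
  set C := centralizer (E : Set G) with hC
  have huC : u⁻¹ * (j * u * j⁻¹) ∈ C := by
    refine mem_centralizer_iff.2 fun x hx => ?_
    have h1 : j * u * j⁻¹ * x * (j * u * j⁻¹)⁻¹ = u * x * u⁻¹ := by
      have hj' : j⁻¹ * x * j = x⁻¹ := by
        have := congrArg (fun y => j⁻¹ * y * j) (hjE x⁻¹ (inv_mem hx))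
        simp only [inv_inv] at this
        rw [← this]; group
      have hux : u * x⁻¹ * u⁻¹ ∈ E := CLarge.conj_mem huN (inv_mem hx)
      calc j * u * j⁻¹ * x * (j * u * j⁻¹)⁻¹ = j * (u * (j⁻¹ * x * j) * u⁻¹) * j⁻¹ := by group
        _ = (u * x⁻¹ * u⁻¹)⁻¹ := by rw [hj', hjE _ hux]
        _ = u * x * u⁻¹ := by group
    calc x * (u⁻¹ * (j * u * j⁻¹)) = u⁻¹ * (u * x * u⁻¹) * (j * u * j⁻¹) := by group
      _ = u⁻¹ * (j * u * j⁻¹ * x * (j * u * j⁻¹)⁻¹) * (j * u * j⁻¹) := by rw [h1]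
      _ = u⁻¹ * (j * u * j⁻¹) * x := by group
  have hPC : (P : Subgroup G) ⊓ C = E := by
    refine le_antisymm (fun x hx => ?_) (le_inf hEP hEab)
    by_contra hxE
    refine htZ ⟨⟨t, hgP⟩, mem_center_iff.2 fun y => Subtype.ext ?_, rfl⟩
    show (y : G) * t = t * (y : G)
    have hyS : (P : Subgroup G) ≤ centralizer ({t} : Set G) := by
      rw [hmax x hx.1 hxE]
      exact sup_le (fun v hv => mem_centralizer_singleton_iff.2
        (mem_centralizer_iff.1 (hEab hv) t htE).symm)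
        (zpowers_le.2 (mem_centralizer_singleton_iff.2 (mem_centralizer_iff.1 hx.2 t htE).symm))
    exact mem_centralizer_singleton_iff.1 (hyS y.2)
  have hEn : (E.subgroupOf C).Normal :=
    normal_subgroupOf_of_le_normalizer (centralizer_le_normalizer _)
  have hidx : ¬ p ∣ (E.subgroupOf C).index := by
    obtain ⟨T, hT⟩ := ((P.isPGroup'.to_le hEP).comap_subtype (K := C)).exists_le_sylow
    have hTE : (T : Subgroup C) = E.subgroupOf C := by
      refine le_antisymm ?_ hT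
      obtain ⟨S3, hS3⟩ := (T.isPGroup'.map C.subtype).exists_le_sylow
      obtain ⟨k, hk⟩ := MulAction.exists_smul_eq G S3 P
      have hmem : ∀ y ∈ (S3 : Subgroup G), k * y * k⁻¹ ∈ (P : Subgroup G) := by
        intro y hy
        rw [← hk, Sylow.smul_def, Sylow.pointwise_smul_def]
        exact Subgroup.smul_mem_pointwise_smul y (MulAut.conj k) _ hy
      have hES3 : ∀ x ∈ E, x ∈ (S3 : Subgroup G) := fun x hx =>
        hS3 ⟨⟨x, hEab hx⟩, hT (mem_subgroupOf.2 hx), rfl⟩
      have hkE : E.map (MulAut.conj k).toMonoidHom = E := by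
        refine eq_of_le_of_card_ge ?_ (Product.card_map_conj E _).ge
        rintro _ ⟨x, hx, rfl⟩
        exact (hΩ _).2 ⟨hmem x (hES3 x hx), by rw [← map_pow, ((hΩ x).1 hx).2, map_one]⟩
      have hkN : k ∈ normalizer (E : Set G) := mem_normalizer_iff_map_conj_eq.2 hkE
      intro y hy
      have hy1 : k * (y : G) * k⁻¹ ∈ (P : Subgroup G) ⊓ C :=
        ⟨hmem y (hS3 ⟨y, hy, rfl⟩), CLarge.conj_mem (CharP.normalizer_le_normalizer_centralizer E hkN) y.2⟩
      rw [hPC] at hy1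
      exact mem_subgroupOf.2 ((mem_normalizer_iff.1 hkN _).2 hy1)
    rw [← hTE]; exact T.not_dvd_index
  set i0 := (center C).index with hi0
  set n0 := (E.subgroupOf C).index with hn0
  have hEc : E.subgroupOf C ≤ center C := fun x hx => mem_center_iff.2 fun y =>
    Subtype.ext (mem_centralizer_iff.1 y.2 x.1 hx).symm
  have hi0p : ¬ p ∣ i0 := fun h => hidx (h.trans (index_dvd_of_le hEc))
  let π : C → C := fun x => (x ^ i0) ^ n0
  have hπmul : ∀ x y : C, π (x * y) = π x * π y := by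
    intro x y
    have h1 := congrArg (Subtype.val) (map_mul (MonoidHom.transferCenterPow C) x y)
    simp only [MonoidHom.transferCenterPow_apply, Subgroup.coe_mul] at h1
    show ((x * y) ^ i0) ^ n0 = _
    rw [h1]
    exact Commute.mul_pow ((mem_center_iff.1 ((center C).pow_index_mem x) (y ^ i0)).symm) n0
  have hπE : ∀ x : C, π x ∈ E.subgroupOf C := fun x => pow_index_mem (E.subgroupOf C) (x ^ i0)
  let c : C := ⟨u⁻¹ * (j * u * j⁻¹), huC⟩
  have hconjC : ∀ x : C, u⁻¹ * (x : G) * u ∈ C := fun x => by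
    simpa using CLarge.conj_mem (CharP.normalizer_le_normalizer_centralizer E (inv_mem huN)) x.2
  let τ : C → C := fun x => ⟨u⁻¹ * (x : G) * u, hconjC x⟩
  have hτpow : ∀ (x : C) (k : ℕ), τ x ^ k = τ (x ^ k) := fun x k => Subtype.ext (by
    show (u⁻¹ * (x : G) * u) ^ k = u⁻¹ * ((x ^ k : C) : G) * u
    rw [SubmonoidClass.coe_pow]
    simpa using (conj_pow (i := k) (a := u⁻¹) (b := (x : G))))
  let D : ℕ → C := fun k => Nat.rec 1 (fun _ d => τ d * c) k
  have hD : ∀ k, (u * (c : G)) ^ k = u ^ k * (D k).1 := by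
    intro k
    induction k with
    | zero => simp [D]
    | succ k ih =>
      show (u * (c : G)) ^ (k + 1) = u ^ (k + 1) * ((u⁻¹ * (D k).1 * u) * (c : G))
      rw [pow_succ, ih, pow_succ]; group
  set e := (π c : G) with hedef
  have heE : e ∈ E := hπE c
  set ε := e⁻¹ * (u⁻¹ * e * u) with hεdef
  have hεZ : ε ∈ Z := by
    have := hcom e⁻¹ (inv_mem (hEP heE)) u⁻¹ (inv_mem huP)
    simpa [hεdef, mul_assoc] using this
  have heε : u⁻¹ * e * u = e * ε := by rw [hεdef]; group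
  have hεe : Commute e ε := (hZc ε hεZ e (hEP heE)).symm
  have huε : u⁻¹ * ε * u = ε := by rw [mul_assoc, hZc ε hεZ u huP]; group
  have hπD : ∀ k, ((π (D k) : C) : G) = e ^ k * ε ^ k.choose 2 := by
    intro k
    induction k with
    | zero =>
      show (((1 : C) ^ i0) ^ n0 : C).1 = _
      simp
    | succ k ih =>
      have h2 : π (τ (D k)) = τ (π (D k)) := by
        show (τ (D k) ^ i0) ^ n0 = τ ((D k ^ i0) ^ n0)
        rw [hτpow, hτpow]
      show (π (τ (D k) * c) : G) = _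
      rw [hπmul, h2, Subgroup.coe_mul]
      show u⁻¹ * ((π (D k) : C) : G) * u * e = _
      rw [ih, show u⁻¹ * (e ^ k * ε ^ k.choose 2) * u =
          (u⁻¹ * e ^ k * u) * (u⁻¹ * ε ^ k.choose 2 * u) by group,
        show u⁻¹ * e ^ k * u = (u⁻¹ * e * u) ^ k by simpa using (conj_pow (i := k) (a := u⁻¹) (b := e)).symm,
        show u⁻¹ * ε ^ k.choose 2 * u = (u⁻¹ * ε * u) ^ k.choose 2 by
          simpa using (conj_pow (i := k.choose 2) (a := u⁻¹) (b := ε)).symm,
        heε, huε, hεe.mul_pow, Nat.choose_succ_succ', Nat.choose_one_right, mul_assoc (e ^ k), ← pow_add,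
        mul_assoc, ((hεe.pow_right _).symm).eq, ← mul_assoc, ← pow_succ]
  have hlhs : (u * (c : G)) ^ p = a⁻¹ := by
    rw [show u * (c : G) = j * u * j⁻¹ from mul_inv_cancel_left u _, conj_pow, ← hadef]
    exact hjE a (hZE haZ)
  have hDp : (D p).1 = a⁻¹ * a⁻¹ := by
    have := hD p
    rw [hlhs, ← hadef] at this
    exact eq_inv_mul_of_mul_eq this.symm
  have hπ1 : ((π (D p) : C) : G) = 1 := by
    rw [hπD, ((hΩ e).1 heE).2]
    obtain ⟨q, hq⟩ := dvd_choose_two hp hp2
    rw [hq, pow_mul, ((hΩ ε).1 (hZE hεZ)).2]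
    simp
  have hoa : orderOf a = p := orderOf_eq_prime ((hΩ a).1 (hZE haZ)).2 ha1
  have h3 : a ^ (2 * (i0 * n0)) = 1 := by
    have h4 : ((a⁻¹ * a⁻¹) ^ i0) ^ n0 = 1 := by
      rw [← hDp, ← SubmonoidClass.coe_pow, ← SubmonoidClass.coe_pow]; exact hπ1
    rw [← pow_mul, ← mul_inv_rev, inv_pow, inv_eq_one, ← sq, ← pow_mul] at h4
    exact h4
  have hd3 := orderOf_dvd_of_pow_eq_one h3
  rw [hoa] at hd3
  rcases hp.dvd_mul.1 hd3 with h | h
  · exact hp2 ((Nat.prime_dvd_prime_iff_eq hp Nat.prime_two).1 h)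
  · rcases hp.dvd_mul.1 h with h | h
    · exact hi0p h
    · exact hidx h

end Cfsg.Agent.ExpSq
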